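import Groth.Agent.ResProp.EF.K858.CF

/-!
# Node [CF] of G6c in the form of helper654's `repDatum`

`W : D ⥤ G.Coalgebra`, `u : D ⥤ C`, `σ : W ≅ u ⋙ G.cofree` (for `W = - ⊗ O`: the shear).  Then `W ⋙ U.Cob` is augmented
to `u` by `Cob(W M)^0 = (W M).A ⟶ G (u M) ⟶ u M`, and the augmentations `Cob (W M) ⟶ (u M)[0]` are quasi-isomorphisms.
-/

set_option autoImplicit false

noncomputable section

open CategoryTheory CategoryTheory.Limits ComplexShape

namespace Groth.Agent.ResProp.EF.K858

universe v₀ u₀ v u v₁ u₁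

section

variable {A : Type u₁} [Category.{v₁} A] {B : Type u} [Category.{v} B] [Abelian B]
  {F F' : A ⥤ CochainComplex B ℤ} {T : A ⥤ B} (p : Aug F T)

/-- change of functor along a natural isomorphism -/
@[simps]
def Aug.ofIso (α : F' ≅ F) : Aug F' T where
  p M := (α.hom.app M).f 0 ≫ p.p M
  nat {M M'} f := by
    have h : (F'.map f).f 0 ≫ (α.hom.app M').f 0 = (α.hom.app M).f 0 ≫ (F.map f).f 0 := by
      rw [← HomologicalComplex.comp_f, ← HomologicalComplex.comp_f, α.hom.naturality]
    rw [← Category.assoc, h, Category.assoc, p.nat, Category.assoc]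
  neg M j hj := (p.neg M j hj).of_iso ((HomologicalComplex.eval B (up ℤ) j).mapIso (α.app M))

lemma Aug.toSgl_ofIso (α : F' ≅ F) (M : A) : (p.ofIso α).toSgl.app M = α.hom.app M ≫ p.toSgl.app M := by
  apply HomologicalComplex.to_single_hom_ext
  have h1 := (p.ofIso α).toSgl_f_zero M
  have h2 := p.toSgl_f_zero M
  have h3 : IsIso ((sglAug T).p M) := isIso_sglAug_p T M
  rw [← cancel_mono ((sglAug T).p M), h1, HomologicalComplex.comp_f, Category.assoc, h2]
  rfl

lemma Aug.quasiIso_ofIso (α : F' ≅ F) (M : A) [QuasiIso (p.toSgl.app M)] : QuasiIso ((p.ofIso α).toSgl.app M) := by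
  rw [p.toSgl_ofIso]
  infer_instance

end

namespace CF

open Groth.Agent.ResProp.EF.K496

variable {C : Type u} [Category.{v} C] {G : Comonad C} (U : CUnit G) [Abelian C] [G.toFunctor.Additive]
  {D : Type u₁} [Category.{v₁} D] (u : D ⥤ C)

/-- the augmentation of `Cob (cofree (u M))` to `u M` -/
def augU : Aug (u ⋙ G.cofree ⋙ U.Cob) u where
  p M := cu G (u.obj M)
  nat f := cuNat (u.map f)
  neg _ j hj := U.isZero_Cob _ j hj

theorem quasiIso_augU (M : D) : QuasiIso ((augU U u).toSgl.app M) := quasiIso U (u.obj M)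

variable {u} {W : D ⥤ G.Coalgebra} (σ : W ≅ u ⋙ G.cofree)

/-- **the augmentation** of `Cob (W M)` to `u M` -/
def augW : Aug (W ⋙ U.Cob) u := (augU U u).ofIso (Functor.isoWhiskerRight σ U.Cob)

@[simp] lemma augW_p (M : D) : (augW U σ).p M = (σ.hom.app M).f ≫ cu G (u.obj M) := rfl

/-- **[CF]** -/
theorem quasiIso_augW (M : D) : QuasiIso ((augW U σ).toSgl.app M) := by
  have := quasiIso_augU U u M
  exact (augU U u).quasiIso_ofIso _ M

end CF

end Groth.Agent.ResProp.EF.K858
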