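import Groth.Agent.ResProp.EF.K380.DCF

/-!
# The projection of a total complex on its row `0`

`F : A ⥤ CochainComplex B ℤ` additive with values in degrees `≥ 0`, `p M : F(M)^0 ⟶ T(M)` natural.
`row F T p : Tot F(I) ⟶ T(I)` is the projection on the row `0` followed by `p`; it is natural in `I`, and a
quasi-isomorphism if all the augmentations `F(M) ⟶ T(M)[0]` are quasi-isomorphisms and `I` is bounded below.
-/

set_option autoImplicit false

universe v₁ v₂ u₁ u₂

open CategoryTheory Category Limits HomologicalComplex₂ ComplexShape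

namespace Groth.Agent.ResProp.EF.K858

open Groth.Agent.ResProp.EF.K380 Groth.Agent.Htor.H253.TotalPrj Groth.Agent.Htor.H253.TotalQuasi

variable {A : Type u₁} [Category.{v₁} A] [Abelian A] {B : Type u₂} [Category.{v₂} B] [Abelian B]

/-- natural maps `p M : F(M)^0 ⟶ T(M)` -/
structure Aug (F : A ⥤ CochainComplex B ℤ) (T : A ⥤ B) where
  /-- the components -/
  p : ∀ M : A, (F.obj M).X 0 ⟶ T.obj M
  nat : ∀ {M M' : A} (f : M ⟶ M'), (F.map f).f 0 ≫ p M' = p M ≫ T.map f
  neg : ∀ (M : A) (j : ℤ), j < 0 → IsZero ((F.obj M).X j)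

section

variable {F : A ⥤ CochainComplex B ℤ} [F.Additive]

/-- the projection on the row `0` -/
noncomputable def pr0 (I : CochainComplex A ℤ) [HomologicalComplex₂.HasTotal (DCF.dc F I) (up ℤ)] (n : ℤ) :
    (HomologicalComplex₂.total (DCF.dc F I) (up ℤ)).X n ⟶ (F.obj (I.X n)).X 0 :=
  prj (DCF.dc F I) n 0 n

lemma d_pr0 (I : CochainComplex A ℤ) [HomologicalComplex₂.HasTotal (DCF.dc F I) (up ℤ)]
    (hF : ∀ (M : A) (j : ℤ), j < 0 → IsZero ((F.obj M).X j)) (n n' : ℤ) (h' : n + 1 = n') :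
    (HomologicalComplex₂.total (DCF.dc F I) (up ℤ)).d n n' ≫ pr0 I n' = pr0 I n ≫ (F.map (I.d n n')).f 0 := by
  have h1 := d_prj (DCF.dc F I) n n' (-1) 0 n n' h' (by norm_num) h' (by lia)
  have h2 : prj (DCF.dc F I) n' (-1) n = 0 := (hF (I.X n') (-1) (by norm_num)).eq_of_tgt _ _
  rw [h2, zero_comp, smul_zero, add_zero] at h1
  exact h1

lemma map_pr0 {I I' : CochainComplex A ℤ} [HomologicalComplex₂.HasTotal (DCF.dc F I) (up ℤ)]
    [HomologicalComplex₂.HasTotal (DCF.dc F I') (up ℤ)] (f : I ⟶ I') (n : ℤ) :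
    (total.map ((F.mapHomologicalComplex (up ℤ)).map f) (up ℤ)).f n ≫ pr0 I' n = pr0 I n ≫ (F.map (f.f n)).f 0 :=
  map_prj ((F.mapHomologicalComplex (up ℤ)).map f) n 0 n

lemma nat_pr0 {F' : A ⥤ CochainComplex B ℤ} [F'.Additive] (α : F ⟶ F')
    (I : CochainComplex A ℤ) [HomologicalComplex₂.HasTotal (DCF.dc F I) (up ℤ)]
    [HomologicalComplex₂.HasTotal (DCF.dc F' I) (up ℤ)] (n : ℤ) :
    (total.map ((NatTrans.mapHomologicalComplex α (up ℤ)).app I) (up ℤ)).f n ≫ pr0 I n =
      pr0 I n ≫ (α.app (I.X n)).f 0 :=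
  map_prj ((NatTrans.mapHomologicalComplex α (up ℤ)).app I) n 0 n

variable {T : A ⥤ B} [T.Additive] (p : Aug F T)

/-- the projection on the row `0`, followed by `p` -/
noncomputable def Aug.row (I : CochainComplex A ℤ) [HomologicalComplex₂.HasTotal (DCF.dc F I) (up ℤ)] :
    HomologicalComplex₂.total (DCF.dc F I) (up ℤ) ⟶ (T.mapHomologicalComplex (up ℤ)).obj I where
  f n := pr0 I n ≫ p.p (I.X n)
  comm' n n' h := by
    have h1 : (pr0 I n ≫ p.p (I.X n)) ≫ T.map (I.d n n') =
        (HomologicalComplex₂.total (DCF.dc F I) (up ℤ)).d n n' ≫ pr0 I n' ≫ p.p (I.X n') := by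
      rw [Category.assoc, ← p.nat, ← Category.assoc, ← d_pr0 I p.neg n n' h, Category.assoc]
    exact h1

@[simp] lemma Aug.row_f (I : CochainComplex A ℤ) [HomologicalComplex₂.HasTotal (DCF.dc F I) (up ℤ)] (n : ℤ) :
    (p.row I).f n = pr0 I n ≫ p.p (I.X n) := rfl

/-- naturality in the complex -/
lemma Aug.row_nat {I I' : CochainComplex A ℤ} [HomologicalComplex₂.HasTotal (DCF.dc F I) (up ℤ)]
    [HomologicalComplex₂.HasTotal (DCF.dc F I') (up ℤ)] (f : I ⟶ I') :
    total.map ((F.mapHomologicalComplex (up ℤ)).map f) (up ℤ) ≫ p.row I' =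
      p.row I ≫ (T.mapHomologicalComplex (up ℤ)).map f := by
  ext n : 1
  have h1 : (pr0 I n ≫ p.p (I.X n)) ≫ T.map (f.f n) = (pr0 I n ≫ (F.map (f.f n)).f 0) ≫ p.p (I'.X n) := by
    rw [Category.assoc, ← p.nat, ← Category.assoc]
  exact ((Category.assoc _ _ _).symm.trans (congrArg (· ≫ p.p (I'.X n)) (map_pr0 f n))).trans h1.symm

/-- change of functor -/
lemma Aug.row_functor {F' : A ⥤ CochainComplex B ℤ} [F'.Additive] (α : F ⟶ F') (p' : Aug F' T)
    (hp : ∀ M : A, (α.app M).f 0 ≫ p'.p M = p.p M)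
    (I : CochainComplex A ℤ) [HomologicalComplex₂.HasTotal (DCF.dc F I) (up ℤ)]
    [HomologicalComplex₂.HasTotal (DCF.dc F' I) (up ℤ)] :
    total.map ((NatTrans.mapHomologicalComplex α (up ℤ)).app I) (up ℤ) ≫ p'.row I = p.row I := by
  ext n : 1
  have h1 : (pr0 I n ≫ (α.app (I.X n)).f 0) ≫ p'.p (I.X n) = pr0 I n ≫ p.p (I.X n) := by
    rw [Category.assoc, hp]
  exact ((Category.assoc _ _ _).symm.trans (congrArg (· ≫ p'.p (I.X n)) (nat_pr0 α I n))).trans h1

end

section single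

variable (T : A ⥤ B) [T.Additive]

/-- `T` in degree `0` -/
noncomputable abbrev sgl : A ⥤ CochainComplex B ℤ := T ⋙ HomologicalComplex.single B (up ℤ) 0

omit [Abelian A] [T.Additive] in
lemma sgl_zero (M : A) (j : ℤ) (hj : j ≠ 0) : IsZero (((sgl T).obj M).X j) :=
  HomologicalComplex.isZero_single_obj_X (up ℤ) 0 (T.obj M) j hj

/-- the degree `0` part of `T[0]` -/
noncomputable def sglAug : Aug (sgl T) T where
  p M := (HomologicalComplex.singleObjXSelf (up ℤ) (0 : ℤ) (T.obj M)).hom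
  nat {M M'} f := by
    change ((HomologicalComplex.single B (up ℤ) 0).map (T.map f)).f 0 ≫ _ = _
    rw [HomologicalComplex.single_map_f_self]
    simp
  neg M j hj := sgl_zero T M j hj.ne

omit [Abelian A] [T.Additive] in
lemma isIso_sglAug_p (M : A) : IsIso ((sglAug T).p M) := by
  change IsIso (HomologicalComplex.singleObjXSelf (up ℤ) (0 : ℤ) (T.obj M)).hom
  infer_instance

lemma isIso_row_sgl (I : CochainComplex A ℤ) [HomologicalComplex₂.HasTotal (DCF.dc (sgl T) I) (up ℤ)] :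
    IsIso ((sglAug T).row I) := by
  have hb : Bdd (DCF.dc (sgl T) I) := fun n => ⟨n, n, fun i j hij hi => sgl_zero T (I.X i) j (by lia)⟩
  have h : ∀ n : ℤ, IsIso (((sglAug T).row I).f n) := by
    intro n
    have h1 : IsIso (prj (DCF.dc (sgl T) I) n 0 n) := by
      refine ⟨HomologicalComplex₂.ιTotal (DCF.dc (sgl T) I) (up ℤ) n 0 n (by dsimp; lia), ?_, ι_prj _ _ _ _ _⟩
      refine ext_prj hb fun i j hij => ?_
      by_cases hj : j = 0
      · subst hj
        obtain rfl : i = n := by lia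
        rw [Category.assoc, ι_prj, Category.comp_id, Category.id_comp]
      · exact (sgl_zero T (I.X i) j hj).eq_of_tgt _ _
    have h1' : IsIso (pr0 (F := sgl T) I n) := h1
    have h2 : IsIso ((sglAug T).p (I.X n)) := isIso_sglAug_p T _
    exact @IsIso.comp_isIso _ _ _ _ _ (pr0 (F := sgl T) I n) ((sglAug T).p (I.X n)) h1' h2
  exact HomologicalComplex.Hom.isIso_of_components _

end single

section quasi

variable {F : A ⥤ CochainComplex B ℤ} [F.Additive] {T : A ⥤ B} [T.Additive] (p : Aug F T)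

/-- the augmentations `F(M) ⟶ T(M)[0]` -/
noncomputable def Aug.toSgl : F ⟶ sgl T where
  app M := HomologicalComplex.mkHomToSingle (p.p M) (fun i hi => by
    have hi' : i + 1 = 0 := hi
    exact (p.neg M i (by lia)).eq_of_src _ _)
  naturality M M' f := by
    apply HomologicalComplex.to_single_hom_ext
    rw [HomologicalComplex.comp_f, HomologicalComplex.comp_f, HomologicalComplex.mkHomToSingle_f,
      HomologicalComplex.mkHomToSingle_f, reassoc_of% (p.nat f)]
    change _ = _ ≫ ((HomologicalComplex.single B (up ℤ) 0).map (T.map f)).f 0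
    rw [HomologicalComplex.single_map_f_self]
    simp

omit [Abelian A] [F.Additive] [T.Additive] in
lemma Aug.toSgl_f_zero (M : A) : (p.toSgl.app M).f 0 ≫ (sglAug T).p M = p.p M := by
  have h : (p.toSgl.app M).f 0 = p.p M ≫ (HomologicalComplex.singleObjXSelf (up ℤ) (0 : ℤ) (T.obj M)).inv :=
    HomologicalComplex.mkHomToSingle_f (p.p M) (fun i hi => by
      have hi' : i + 1 = 0 := hi
      exact (p.neg M i (by lia)).eq_of_src _ _)
  rw [h, Category.assoc]
  change _ ≫ _ ≫ (HomologicalComplex.singleObjXSelf (up ℤ) (0 : ℤ) (T.obj M)).hom = _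
  rw [Iso.inv_hom_id, Category.comp_id]

/-- **Main statement.** -/
theorem Aug.quasiIso_row (hq : ∀ M : A, QuasiIso (p.toSgl.app M)) {a : ℤ} (I : CochainComplex A ℤ)
    (hI : ∀ i : ℤ, i < a → IsZero (I.X i)) [HomologicalComplex₂.HasTotal (DCF.dc F I) (up ℤ)] :
    QuasiIso (p.row I) := by
  have hD : DC.Quad a 0 (DCF.dc F I) := DCF.quad F p.neg I hI
  have hE : DC.Quad a 0 (DCF.dc (sgl T) I) := DCF.quad (sgl T) (fun M j hj => sgl_zero T M j hj.ne) I hI
  have := hE.hasTotal
  rw [← p.row_functor p.toSgl (sglAug T) p.toSgl_f_zero I]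
  have h1 := isIso_row_sgl T I
  have h2 : QuasiIso (total.map ((NatTrans.mapHomologicalComplex p.toSgl (up ℤ)).app I) (up ℤ)) :=
    quasiIso_total_map _ hD.bdd hE.bdd fun i => hq (I.X i)
  infer_instance

end quasi

end Groth.Agent.ResProp.EF.K858
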