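import Groth.Agent.ResProp.EF.K858.RowMap
import Groth.Agent.ResProp.EF.K496.CobAbs
import Mathlib.Algebra.Homology.QuasiIso

/-!
# Node [CF] of G6c: the cobar complex of a cofree coalgebra is a resolution

`U : CUnit G` (helper496's setting), `Z : C`.  The counit `ε_Z : G Z ⟶ Z` in degree `0` gives a quasi-isomorphism
`Cob (G.cofree.obj Z) ⟶ Z[0]`, natural in `Z`, and, for a bounded below complex `Z`, a quasi-isomorphism
`Tot Cob (cofree Z) ⟶ Z`.  Contraction: `s^n = G^(n+1) (ε_Z)`.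
-/

set_option autoImplicit false

noncomputable section

open CategoryTheory CategoryTheory.Limits ComplexShape

namespace Groth.Agent.ResProp.EF.K858.CF

open Groth.Agent.ResProp.EF.K496 Groth.Agent.ResProp.EF.K380 Groth.Agent.ResProp.EF.K858

universe v u

variable {C : Type u} [Category.{v} C] {G : Comonad C} (U : CUnit G)

/-- the counit, with its type spelled out -/
abbrev cu (G : Comonad C) (Z : C) : G.obj Z ⟶ Z := G.ε.app Z

/-- the contraction `s^n = G^(n+1) (ε_Z)` -/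
def sN (G : Comonad C) (Z : C) : (n : ℕ) → (pw G (G.obj Z) (n + 1) ⟶ pw G (G.obj Z) n)
  | 0 => G.map (cu G Z)
  | n + 1 => G.map (sN G Z n)

lemma cuNat {M N : C} (f : M ⟶ N) : G.map f ≫ cu G N = cu G M ≫ f := G.ε.naturality f

section Preadditive

variable [Preadditive C]

/-- the differential of the cobar complex of `G.cofree.obj Z`, with its type spelled out -/
def dC (Z : C) (n : ℕ) : pw G (G.obj Z) n ⟶ pw G (G.obj Z) (n + 1) := U.d (G.cofree.obj Z) n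

lemma dC_zero (Z : C) : dC U Z 0 = dl G Z - U.e (G.obj Z) := rfl

lemma dC_succ (Z : C) (n : ℕ) :
    dC U Z (n + 1) = G.map (dC U Z n) + ((-1 : ℤ) ^ (n + 1)) • U.tl (pw G (G.obj Z) n) := rfl

/-- `η_Z` is killed by the differential of the cofree coalgebra -/
lemma e_d_zero (Z : C) : U.e Z ≫ dC U Z 0 = 0 := by
  have h : U.e Z ≫ (dl G Z - U.e (G.obj Z)) = 0 := by
    rw [Preadditive.comp_sub, U.comul, U.nat, sub_self]
  exact h

lemma d_s_zero (Z : C) : dC U Z 0 ≫ sN G Z 0 = 𝟙 (G.obj Z) - cu G Z ≫ U.e Z := by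
  have h : (dl G Z - U.e (G.obj Z)) ≫ G.map (cu G Z) = 𝟙 (G.obj Z) - cu G Z ≫ U.e Z := by
    rw [Preadditive.sub_comp, ← U.nat]
    exact congrArg (· - cu G Z ≫ U.e Z) (G.right_counit Z)
  exact h

variable [G.toFunctor.Additive]

lemma d_s_one (Z : C) : dC U Z 1 ≫ sN G Z 1 + sN G Z 0 ≫ dC U Z 0 = 𝟙 _ := by
  have e1 : dC U Z 1 = G.map (dC U Z 0) - U.tl (G.obj Z) := by
    have h : dC U Z 1 = G.map (dC U Z 0) + ((-1 : ℤ) ^ (1 : ℕ)) • U.tl (G.obj Z) := dC_succ U Z 0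
    rw [h, pow_one, neg_smul, one_smul, sub_eq_add_neg]
  have e2 : G.map (dC U Z 0) ≫ sN G Z 1 =
      𝟙 (G.obj (G.obj Z)) - G.map (cu G Z) ≫ G.map (U.e Z) := by
    have : G.map (dC U Z 0) ≫ sN G Z 1 =
        G.map (dC U Z 0 ≫ sN G Z 0) := (G.map_comp _ _).symm
    rw [this, d_s_zero, Gsub, G.map_comp]
    exact congrArg (· - _) (G.map_id _)
  have e3 : U.tl (G.obj Z) ≫ G.map (G.map (cu G Z)) = G.map (cu G Z) ≫ U.tl Z := (U.tl_nat _).symm
  have e5 : dC U Z 1 ≫ sN G Z 1 =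
      𝟙 (G.obj (G.obj Z)) - G.map (cu G Z) ≫ G.map (U.e Z) - G.map (cu G Z) ≫ U.tl Z := by
    rw [e1, Preadditive.sub_comp, e2]
    exact congrArg (_ - ·) e3
  have e6 : sN G Z 0 ≫ dC U Z 0 = G.map (cu G Z) ≫ (dl G Z - U.e (G.obj Z)) := rfl
  have e7 : G.map (cu G Z) ≫ (dl G Z - U.e (G.obj Z)) =
      G.map (cu G Z) ≫ G.map (U.e Z) + G.map (cu G Z) ≫ U.tl Z := by
    rw [← Preadditive.comp_add]
    congr 1
    simp only [CUnit.tl]
    abel
  rw [e5, e6, e7]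
  abel

lemma d_s_succ (Z : C) (n : ℕ) :
    dC U Z (n + 1) ≫ sN G Z (n + 1) + sN G Z n ≫ dC U Z n = 𝟙 _ := by
  induction n with
  | zero => exact d_s_one U Z
  | succ n ih =>
    have e1 : dC U Z (n + 1 + 1) ≫ sN G Z (n + 1 + 1) =
        G.map (dC U Z (n + 1) ≫ sN G Z (n + 1)) +
          ((-1 : ℤ) ^ (n + 1 + 1)) • (U.tl (pw G (G.obj Z) (n + 1)) ≫ G.map (G.map (sN G Z n))) := by
      rw [dC_succ, Preadditive.add_comp, Preadditive.zsmul_comp, G.map_comp]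
      rfl
    have e2 : sN G Z (n + 1) ≫ dC U Z (n + 1) =
        G.map (sN G Z n ≫ dC U Z n) +
          ((-1 : ℤ) ^ (n + 1)) • (G.map (sN G Z n) ≫ U.tl (pw G (G.obj Z) n)) := by
      rw [dC_succ, Preadditive.comp_add, Preadditive.comp_zsmul, G.map_comp]
      rfl
    have e3 : G.map (sN G Z n) ≫ U.tl (pw G (G.obj Z) n) =
        U.tl (pw G (G.obj Z) (n + 1)) ≫ G.map (G.map (sN G Z n)) := U.tl_nat _
    have e4 : ((-1 : ℤ) ^ (n + 1 + 1)) = - ((-1 : ℤ) ^ (n + 1)) := by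
      rw [pow_succ (-1 : ℤ) (n + 1), mul_neg, mul_one]
    have e6 : G.map (dC U Z (n + 1) ≫ sN G Z (n + 1)) + G.map (sN G Z n ≫ dC U Z n) =
        𝟙 (G.obj (pw G (G.obj Z) (n + 1))) := by
      rw [← Gadd, ih]
      exact G.map_id _
    rw [e1, e2, e3, e4, neg_smul]
    refine Eq.trans ?_ e6
    abel

variable [HasZeroObject C]

lemma cob_d (Z : C) (n : ℕ) :
    (U.Cob.obj (G.cofree.obj Z)).d (n : ℤ) ((n : ℤ) + 1) = dC U Z n := U.Cob_d _ n

end Preadditive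

section Abelian

variable [Abelian C] [G.toFunctor.Additive]

/-- the augmentation `ε_Z` of `Cob (cofree Z)` in degree `0` -/
def aug : Aug (G.cofree ⋙ U.Cob) (𝟭 C) where
  p Z := cu G Z
  nat f := cuNat f
  neg _ j hj := U.isZero_Cob _ j hj

/-- the homotopy, indexed by `ℤ` -/
def sZ (G : Comonad C) (Z : C) : (n : ℤ) → (cobX G (G.obj Z) (n + 1) ⟶ cobX G (G.obj Z) n)
  | Int.ofNat n => sN G Z n
  | Int.negSucc _ => 0

/-- the homotopy -/
def sH (Z : C) (i j : ℤ) (h : (up ℤ).Rel j i) :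
    (U.Cob.obj (G.cofree.obj Z)).X i ⟶ (U.Cob.obj (G.cofree.obj Z)).X j :=
  eqToHom (congrArg (cobX G (G.obj Z)) (show i = j + 1 from (show j + 1 = i from h).symm)) ≫ sZ G Z j

/-- the section `η_Z : Z[0] ⟶ Cob (cofree Z)` -/
def sec (Z : C) : (sgl (𝟭 C)).obj Z ⟶ U.Cob.obj (G.cofree.obj Z) :=
  HomologicalComplex.mkHomFromSingle (j := (0 : ℤ)) (U.e Z) (fun k hk => by
    have hk' : (0 : ℤ) + 1 = k := hk
    subst hk'
    have h : U.e Z ≫ dC U Z 0 = 0 := e_d_zero U Z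
    rw [← cob_d] at h
    exact h)

lemma sec_f_zero (Z : C) : (sec U Z).f 0 = (sglAug (𝟭 C)).p Z ≫ U.e Z :=
  HomologicalComplex.mkHomFromSingle_f _ _

instance (Z : C) : IsIso ((sglAug (𝟭 C)).p Z) := isIso_sglAug_p _ _

/-- the augmentation, with its type spelled out -/
def toS (Z : C) : U.Cob.obj (G.cofree.obj Z) ⟶ (sgl (𝟭 C)).obj Z := (aug U).toSgl.app Z

lemma toS_zero (Z : C) : (toS U Z).f 0 ≫ (sglAug (𝟭 C)).p Z = cu G Z := (aug U).toSgl_f_zero Z

lemma sec_toSgl (Z : C) : sec U Z ≫ toS U Z = 𝟙 _ := by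
  apply HomologicalComplex.to_single_hom_ext
  have h : (U.e Z ≫ cu G Z) = 𝟙 Z := U.counit Z
  have h2 : ((sec U Z).f 0 ≫ (toS U Z).f 0) ≫ (sglAug (𝟭 C)).p Z = 𝟙 _ ≫ (sglAug (𝟭 C)).p Z := by
    rw [Category.assoc]
    refine (congrArg₂ (fun f g => f ≫ g) (sec_f_zero U Z) (toS_zero U Z)).trans ?_
    refine (Category.assoc ((sglAug (𝟭 C)).p Z) (U.e Z) (cu G Z)).trans ?_
    refine (congrArg (fun f => (sglAug (𝟭 C)).p Z ≫ f) h).trans ?_
    exact (Category.comp_id _).trans (Category.id_comp _).symm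
  exact (cancel_mono _).mp h2

lemma toSgl_sec_zero (Z : C) : (toS U Z ≫ sec U Z).f 0 = cu G Z ≫ U.e Z := by
  refine (congrArg (fun f => (toS U Z).f 0 ≫ f) (sec_f_zero U Z)).trans ?_
  refine (Category.assoc ((toS U Z).f 0) ((sglAug (𝟭 C)).p Z) (U.e Z)).symm.trans ?_
  exact congrArg (fun f => f ≫ U.e Z) (toS_zero U Z)

lemma sH_succ (Z : C) (n : ℕ) :
    sH U Z ((n : ℤ) + 1) (n : ℤ) rfl = sN G Z n := by
  have h : sH U Z ((n : ℤ) + 1) (n : ℤ) rfl = 𝟙 _ ≫ sN G Z n := rfl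
  rw [h]
  exact Category.id_comp _

lemma null_eq (Z : C) :
    Homotopy.nullHomotopicMap' (sH U Z) = 𝟙 (U.Cob.obj (G.cofree.obj Z)) - toS U Z ≫ sec U Z := by
  ext n : 1
  rw [HomologicalComplex.sub_f_apply, HomologicalComplex.id_f]
  obtain n | n := n
  · obtain _ | n := n
    · have h := Homotopy.nullHomotopicMap'_f (c := up ℤ) (k₂ := -1) (k₁ := (0 : ℕ)) (k₀ := (0 : ℕ) + 1)
        (by simp) rfl (sH U Z)
      have h1 : (Homotopy.nullHomotopicMap' (sH U Z)).f ((0 : ℕ) : ℤ) = dC U Z 0 ≫ sN G Z 0 := by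
        rw [h, (U.isZero_Cob (G.cofree.obj Z) (-1) (by norm_num)).eq_of_tgt
          (sH U Z ((0 : ℕ) : ℤ) (-1) (by simp)) 0, zero_comp, add_zero]
        exact congrArg₂ (fun f g => f ≫ g) (cob_d U Z 0) (sH_succ U Z 0)
      rw [d_s_zero] at h1
      refine h1.trans ?_
      exact congrArg (𝟙 (G.obj Z) - ·) (toSgl_sec_zero U Z).symm
    · have h := Homotopy.nullHomotopicMap'_f (c := up ℤ) (k₂ := (n : ℤ)) (k₁ := (n : ℤ) + 1)
        (k₀ := (n : ℤ) + 1 + 1) rfl rfl (sH U Z)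
      have h1 : (Homotopy.nullHomotopicMap' (sH U Z)).f ((n : ℤ) + 1) =
          dC U Z (n + 1) ≫ sN G Z (n + 1) + sN G Z n ≫ dC U Z n := by
        have e1 : (U.Cob.obj (G.cofree.obj Z)).d ((n : ℤ) + 1) ((n : ℤ) + 1 + 1) = dC U Z (n + 1) :=
          cob_d U Z (n + 1)
        have e2 : sH U Z ((n : ℤ) + 1 + 1) ((n : ℤ) + 1) rfl = sN G Z (n + 1) := sH_succ U Z (n + 1)
        rw [h]
        exact congrArg₂ (fun f g => f + g) (congrArg₂ (fun f g => f ≫ g) e1 e2)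
          (congrArg₂ (fun f g => f ≫ g) (sH_succ U Z n) (cob_d U Z n))
      rw [d_s_succ] at h1
      have h2 : (toS U Z ≫ sec U Z).f (Int.ofNat (n + 1)) = 0 := by
        rw [HomologicalComplex.comp_f,
          (sgl_zero (𝟭 C) Z (Int.ofNat (n + 1)) (by simp; lia)).eq_of_tgt ((toS U Z).f _) 0, zero_comp]
      rw [h2, sub_zero]
      exact h1
  · exact (U.isZero_Cob (G.cofree.obj Z) (Int.negSucc n) (by lia)).eq_of_src _ _

/-- the homotopy equivalence `Cob (cofree Z) ≃ Z[0]` -/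
def heq (Z : C) : HomotopyEquiv (U.Cob.obj (G.cofree.obj Z)) ((sgl (𝟭 C)).obj Z) where
  hom := toS U Z
  inv := sec U Z
  homotopyHomInvId := (Homotopy.equivSubZero.symm
    ((Homotopy.ofEq (null_eq U Z).symm).trans (Homotopy.nullHomotopy' (sH U Z)))).symm
  homotopyInvHomId := Homotopy.ofEq (sec_toSgl U Z)

/-- **[CF]** The augmentation `Cob (cofree Z) ⟶ Z[0]` is a quasi-isomorphism. -/
theorem quasiIso (Z : C) : QuasiIso ((aug U).toSgl.app Z) :=
  (heq U Z).quasiIso_hom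

/-- `(𝟭 C)(I) ≅ I` -/
def idI (I : CochainComplex C ℤ) : ((𝟭 C).mapHomologicalComplex (up ℤ)).obj I ≅ I :=
  HomologicalComplex.Hom.isoOfComponents (fun _ => Iso.refl _) fun _ _ _ =>
    (Category.id_comp _).trans (Category.comp_id _).symm

/-- `Tot Cob (cofree I) ⟶ I`: the projection on cobar degree `0`, followed by the counit -/
def tot (I : CochainComplex C ℤ) [HomologicalComplex₂.HasTotal (DCF.dc (G.cofree ⋙ U.Cob) I) (up ℤ)] :
    HomologicalComplex₂.total (DCF.dc (G.cofree ⋙ U.Cob) I) (up ℤ) ⟶ I :=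
  (aug U).row I ≫ (idI I).hom

lemma tot_f (I : CochainComplex C ℤ) [HomologicalComplex₂.HasTotal (DCF.dc (G.cofree ⋙ U.Cob) I) (up ℤ)] (n : ℤ) :
    (tot U I).f n = pr0 (F := G.cofree ⋙ U.Cob) I n ≫ cu G (I.X n) :=
  Category.comp_id _

lemma tot_nat {I I' : CochainComplex C ℤ}
    [HomologicalComplex₂.HasTotal (DCF.dc (G.cofree ⋙ U.Cob) I) (up ℤ)]
    [HomologicalComplex₂.HasTotal (DCF.dc (G.cofree ⋙ U.Cob) I') (up ℤ)] (f : I ⟶ I') :
    HomologicalComplex₂.total.map (((G.cofree ⋙ U.Cob).mapHomologicalComplex (up ℤ)).map f) (up ℤ) ≫ tot U I' =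
      tot U I ≫ f := by
  have h := (aug U).row_nat f
  have h2 : ((𝟭 C).mapHomologicalComplex (up ℤ)).map f ≫ (idI I').hom = (idI I).hom ≫ f := by
    ext n
    exact (Category.comp_id _).trans (Category.id_comp _).symm
  rw [tot, tot, ← Category.assoc, h, Category.assoc, h2, Category.assoc]

/-- **[CF], complexes.** `Tot Cob (cofree I) ⟶ I` is a quasi-isomorphism for `I` bounded below. -/
theorem quasiIso_tot {a : ℤ} (I : CochainComplex C ℤ) (hI : ∀ i : ℤ, i < a → IsZero (I.X i))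
    [HomologicalComplex₂.HasTotal (DCF.dc (G.cofree ⋙ U.Cob) I) (up ℤ)] : QuasiIso (tot U I) := by
  have := (aug U).quasiIso_row (quasiIso U) I hI
  exact quasiIso_comp _ _

section Coalg

variable [PreservesFiniteLimits G.toFunctor]

/-- The complex of coalgebras `cofree I`. -/
abbrev cof (G : Comonad C) [G.toFunctor.Additive] [PreservesFiniteLimits G.toFunctor] (I : CochainComplex C ℤ) :
    CochainComplex G.Coalgebra ℤ :=
  (G.cofree.mapHomologicalComplex (up ℤ)).obj I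

lemma dc_cof (I : CochainComplex C ℤ) : DCF.dc U.Cob (cof G I) = DCF.dc (G.cofree ⋙ U.Cob) I := rfl

lemma quad_Cob {a : ℤ} (M : CochainComplex G.Coalgebra ℤ) (hM : ∀ i : ℤ, i < a → IsZero (M.X i)) :
    DC.Quad a 0 (DCF.dc U.Cob M) :=
  DCF.quad U.Cob (fun N j hj => U.isZero_Cob N j hj) M hM

/-- `Tot Cob (cofree I) ⟶ I`, for the complex of coalgebras `cofree I` -/
def totC (I : CochainComplex C ℤ) [h : HomologicalComplex₂.HasTotal (DCF.dc U.Cob (cof G I)) (up ℤ)] :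
    HomologicalComplex₂.total (DCF.dc U.Cob (cof G I)) (up ℤ) ⟶ I :=
  have : HomologicalComplex₂.HasTotal (DCF.dc (G.cofree ⋙ U.Cob) I) (up ℤ) := h
  tot U I

lemma totC_f (I : CochainComplex C ℤ) [HomologicalComplex₂.HasTotal (DCF.dc U.Cob (cof G I)) (up ℤ)] (n : ℤ) :
    (totC U I).f n = pr0 (F := U.Cob) (cof G I) n ≫ cu G (I.X n) :=
  Category.comp_id _

lemma totC_nat {I I' : CochainComplex C ℤ}
    [h : HomologicalComplex₂.HasTotal (DCF.dc U.Cob (cof G I)) (up ℤ)]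
    [h' : HomologicalComplex₂.HasTotal (DCF.dc U.Cob (cof G I')) (up ℤ)] (f : I ⟶ I') :
    HomologicalComplex₂.total.map ((U.Cob.mapHomologicalComplex (up ℤ)).map
      ((G.cofree.mapHomologicalComplex (up ℤ)).map f)) (up ℤ) ≫ totC U I' = totC U I ≫ f :=
  have : HomologicalComplex₂.HasTotal (DCF.dc (G.cofree ⋙ U.Cob) I) (up ℤ) := h
  have : HomologicalComplex₂.HasTotal (DCF.dc (G.cofree ⋙ U.Cob) I') (up ℤ) := h'
  tot_nat U f

theorem quasiIso_totC {a : ℤ} (I : CochainComplex C ℤ) (hI : ∀ i : ℤ, i < a → IsZero (I.X i))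
    [h : HomologicalComplex₂.HasTotal (DCF.dc U.Cob (cof G I)) (up ℤ)] : QuasiIso (totC U I) :=
  have : HomologicalComplex₂.HasTotal (DCF.dc (G.cofree ⋙ U.Cob) I) (up ℤ) := h
  quasiIso_tot U I hI

/-- `Tot Cob M ⟶ I` for a complex of coalgebras `M` with a map to `cofree I` -/
def totM {M : CochainComplex G.Coalgebra ℤ} {I : CochainComplex C ℤ} (φ : M ⟶ cof G I)
    [HomologicalComplex₂.HasTotal (DCF.dc U.Cob M) (up ℤ)]
    [HomologicalComplex₂.HasTotal (DCF.dc U.Cob (cof G I)) (up ℤ)] :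
    HomologicalComplex₂.total (DCF.dc U.Cob M) (up ℤ) ⟶ I :=
  HomologicalComplex₂.total.map ((U.Cob.mapHomologicalComplex (up ℤ)).map φ) (up ℤ) ≫ totC U I

/-- `Tot Cob M ⟶ I` is a quasi-isomorphism for `φ : M ⟶ cofree I` an isomorphism. -/
theorem quasiIso_totM {M : CochainComplex G.Coalgebra ℤ} {I : CochainComplex C ℤ} (φ : M ⟶ cof G I) [IsIso φ]
    [HomologicalComplex₂.HasTotal (DCF.dc U.Cob M) (up ℤ)]
    [HomologicalComplex₂.HasTotal (DCF.dc U.Cob (cof G I)) (up ℤ)]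
    {a : ℤ} (hI : ∀ i : ℤ, i < a → IsZero (I.X i)) : QuasiIso (totM U φ) := by
  have h1 := quasiIso_totC U I hI
  have h2 : IsIso (HomologicalComplex₂.total.map ((U.Cob.mapHomologicalComplex (up ℤ)).map φ) (up ℤ)) := by
    refine ⟨HomologicalComplex₂.total.map ((U.Cob.mapHomologicalComplex (up ℤ)).map (inv φ)) (up ℤ), ?_, ?_⟩
    · rw [← HomologicalComplex₂.total.map_comp, ← Functor.map_comp, IsIso.hom_inv_id, CategoryTheory.Functor.map_id,
        HomologicalComplex₂.total.map_id]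
    · rw [← HomologicalComplex₂.total.map_comp, ← Functor.map_comp, IsIso.inv_hom_id, CategoryTheory.Functor.map_id,
        HomologicalComplex₂.total.map_id]
  exact quasiIso_comp _ _

end Coalg

end Abelian

end Groth.Agent.ResProp.EF.K858.CF
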